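import Groth.Agent.GrothSS.Efface
import Mathlib.AlgebraicTopology.AlternatingFaceMapComplex
import Mathlib.CategoryTheory.Abelian.FunctorCategory
import Mathlib.CategoryTheory.Abelian.Refinements

/-!
Derived limits over the simplex category are computed by the alternating coface map complex.
-/

set_option autoImplicit false
set_option linter.style.haveILetI false
set_option backward.isDefEq.respectTransparency false
set_option backward.defeqAttrib.useBackward true

universe v u

open CategoryTheory Category Limits Opposite AlgebraicTopology Simplicial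

namespace Groth.Agent.W7CosimpLim

variable {A : Type u} [Category.{v} A] [Abelian A]

/-- the coface map complex -/
noncomputable abbrev cx : (SimplexCategory ⥤ A) ⥤ CochainComplex A ℕ :=
  alternatingCofaceMapComplex A

lemma cx_d (F : SimplexCategory ⥤ A) (n : ℕ) :
    (cx.obj F).d n (n + 1) =
      ∑ i : Fin (n + 2), (-1 : ℤ) ^ (i : ℕ) • F.map (SimplexCategory.δ i) :=
  CochainComplex.of_d (fun m => F.obj (SimplexCategory.mk m))
    (AlternatingCofaceMapComplex.objD (F : CosimplicialObject A)) n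

lemma cx_map_f {F G : SimplexCategory ⥤ A} (φ : F ⟶ G) (n : ℕ) :
    (cx.map φ).f n = φ.app ⦋n⦌ :=
  rfl

instance : (cx (A := A)).PreservesZeroMorphisms where
  map_zero F G := HomologicalComplex.hom_ext _ _ fun n => by rw [cx_map_f]; rfl

lemma cx_shortExact (T : ShortComplex (SimplexCategory ⥤ A)) (hT : T.ShortExact) :
    (T.map cx).ShortExact := by
  refine HomologicalComplex.shortExact_of_degreewise_shortExact _ fun n => ?_
  refine ShortComplex.shortExact_of_iso ?_ (hT.map_of_exact ((evaluation SimplexCategory A).obj ⦋n⦌))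
  exact ShortComplex.isoMk (Iso.refl _) (Iso.refl _) (Iso.refl _)
    (((id_comp _).trans (cx_map_f T.f n)).trans (comp_id _).symm)
    (((id_comp _).trans (cx_map_f T.g n)).trans (comp_id _).symm)

section Lim

variable (F : SimplexCategory ⥤ A)

lemma iCycles_δ :
    (cx.obj F).iCycles 0 ≫ F.map (SimplexCategory.δ 0) =
      (cx.obj F).iCycles 0 ≫ F.map (SimplexCategory.δ 1) := by
  have h := (cx.obj F).iCycles_d 0 1
  rw [cx_d, Fin.sum_univ_two, Preadditive.comp_add, Fin.val_zero, Fin.val_one, pow_zero, pow_one,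
    one_zsmul, neg_one_zsmul, Preadditive.comp_neg, ← sub_eq_add_neg, sub_eq_zero] at h
  exact h

/-- the edge between two vertices -/
def edge {n : ℕ} (i j : Fin (n + 1)) (h : i ≤ j) : ⦋1⦌ ⟶ ⦋n⦌ :=
  SimplexCategory.Hom.mk ⟨![i, j], fun a b hab => by
    fin_cases a <;> fin_cases b <;> simp_all⟩

lemma iCycles_const {n : ℕ} (i j : Fin (n + 1)) :
    (cx.obj F).iCycles 0 ≫ F.map (SimplexCategory.const ⦋0⦌ ⦋n⦌ i) =
      (cx.obj F).iCycles 0 ≫ F.map (SimplexCategory.const ⦋0⦌ ⦋n⦌ j) := by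
  wlog h : i ≤ j generalizing i j
  · exact (this j i (le_of_not_ge h)).symm
  have e0 : SimplexCategory.δ 0 ≫ edge i j h = SimplexCategory.const ⦋0⦌ ⦋n⦌ j := by
    ext k; fin_cases k; rfl
  have e1 : SimplexCategory.δ 1 ≫ edge i j h = SimplexCategory.const ⦋0⦌ ⦋n⦌ i := by
    ext k; fin_cases k; rfl
  rw [← e0, ← e1, F.map_comp, F.map_comp]
  exact ((reassoc_of% (iCycles_δ F)) _).symm

/-- the cone on the zero cycles -/
noncomputable def cycCone : Cone F where
  pt := (cx.obj F).cycles 0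
  π :=
    { app := fun X => (cx.obj F).iCycles 0 ≫ F.map (SimplexCategory.const ⦋0⦌ X 0)
      naturality := fun X Y g => by
        refine (id_comp _).trans ?_
        rw [assoc]
        refine (iCycles_const F (n := Y.len) 0 (g.toOrderHom 0)).trans ?_
        refine congrArg ((cx.obj F).iCycles 0 ≫ ·) ?_
        exact (congrArg F.map (SimplexCategory.const_comp ⦋0⦌ g 0).symm).trans (F.map_comp _ _) }

variable [HasLimitsOfShape SimplexCategory A]

lemma π_d : limit.π F ⦋0⦌ ≫ (cx.obj F).d 0 1 = 0 := by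
  rw [cx_d, Fin.sum_univ_two, Preadditive.comp_add, Fin.val_zero, Fin.val_one, pow_zero, pow_one,
    one_zsmul, neg_one_zsmul, Preadditive.comp_neg, ← sub_eq_add_neg, sub_eq_zero]
  exact (limit.w F _).trans (limit.w F _).symm

/-- the comparison from the limit to the zero cycles -/
noncomputable def limCyc : lim.obj F ⟶ (cx.obj F).cycles 0 :=
  (cx.obj F).liftCycles (limit.π F ⦋0⦌) 1 (by simp) (π_d F)

lemma limCyc_i : limCyc F ≫ (cx.obj F).iCycles 0 = limit.π F ⦋0⦌ :=
  (cx.obj F).liftCycles_i _ _ _ _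

instance isIso_limCyc : IsIso (limCyc F) := by
  refine ⟨limit.lift F (cycCone F), ?_, ?_⟩
  · refine limit.hom_ext fun X => ?_
    rw [assoc, limit.lift_π, id_comp]
    change limCyc F ≫ (cx.obj F).iCycles 0 ≫ F.map (SimplexCategory.const ⦋0⦌ X 0) = _
    exact ((reassoc_of% (limCyc_i F)) _).trans (limit.w F _)
  · rw [← cancel_mono ((cx.obj F).iCycles 0), assoc, limCyc_i, limit.lift_π, id_comp]
    change (cx.obj F).iCycles 0 ≫ F.map (SimplexCategory.const ⦋0⦌ ⦋0⦌ 0) = _
    rw [show SimplexCategory.const ⦋0⦌ ⦋0⦌ 0 = 𝟙 _ from by ext k; fin_cases k; rfl,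
      F.map_id]
    exact comp_id _

instance : IsIso ((cx.obj F).homologyπ 0) :=
  GrothSS.isIso_homologyπ_zero _

/-- limits over the simplex category are zeroth cohomology -/
noncomputable def limIso : (lim : (SimplexCategory ⥤ A) ⥤ A) ≅
    cx ⋙ HomologicalComplex.homologyFunctor A (ComplexShape.up ℕ) 0 :=
  NatIso.ofComponents (fun F => asIso (limCyc F) ≪≫ asIso ((cx.obj F).homologyπ 0))
    (fun {F G} φ => by
      simp only [Iso.trans_hom, asIso_hom, Functor.comp_map, HomologicalComplex.homologyFunctor_map,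
        assoc, HomologicalComplex.homologyπ_naturality]
      rw [← assoc, ← assoc]
      refine congrArg (· ≫ _) ?_
      rw [← cancel_mono ((cx.obj G).iCycles 0), assoc, assoc, limCyc_i,
        HomologicalComplex.cyclesMap_i, cx_map_f]
      refine (limMap_π _ _).trans ?_
      exact ((reassoc_of% (limCyc_i F)) _).symm)

end Lim

section Vanish

variable [HasProducts.{0} A]

/-- prepend the initial vertex -/
def consHom {n : ℕ} {m : SimplexCategory} (g : ⦋n⦌ ⟶ m) : ⦋n + 1⦌ ⟶ m :=
  SimplexCategory.Hom.mk ⟨Fin.cons 0 g.toOrderHom, fun a b hab => by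
    induction a using Fin.cases with
    | zero => simp
    | succ a =>
      induction b using Fin.cases with
      | zero => exact absurd (Fin.le_zero_iff.1 hab) (Fin.succ_ne_zero a)
      | succ b => simpa using g.toOrderHom.monotone (Fin.succ_le_succ_iff.1 hab)⟩

lemma δ_zero_consHom {n : ℕ} {m : SimplexCategory} (g : ⦋n⦌ ⟶ m) :
    SimplexCategory.δ 0 ≫ consHom g = g := by
  ext k
  simp [consHom, SimplexCategory.δ]

lemma δ_succ_consHom {n : ℕ} {m : SimplexCategory} (g : ⦋n + 1⦌ ⟶ m) (i : Fin (n + 2)) :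
    SimplexCategory.δ i.succ ≫ consHom g = consHom (SimplexCategory.δ i ≫ g) := by
  ext k
  induction k using Fin.cases with
  | zero => simp [consHom, SimplexCategory.δ]
  | succ k => simp [consHom, SimplexCategory.δ, Fin.succ_succAbove_succ]

variable (B : SimplexCategory → A)

/-- the indices of the cofree object -/
abbrev Q (x : SimplexCategory) : Type := Σ m : SimplexCategory, (x ⟶ m)

/-- a projection -/
noncomputable abbrev pr {x : SimplexCategory} (m : SimplexCategory) (g : x ⟶ m) :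
    (∏ᶜ fun q : Q x => B q.1) ⟶ B m :=
  Pi.π (fun q : Q x => B q.1) ⟨m, g⟩

/-- the cofree cosimplicial object -/
noncomputable def W : SimplexCategory ⥤ A where
  obj x := ∏ᶜ fun q : Q x => B q.1
  map {x y} θ := Pi.lift fun q : Q y => Pi.π (fun q : Q x => B q.1) ⟨q.1, θ ≫ q.2⟩
  map_id x := Pi.hom_ext _ _ fun q => by
    simp only [Pi.lift_π, id_comp]
    exact congrArg (pr B q.1) (id_comp q.2)
  map_comp {x y z} θ η := Pi.hom_ext _ _ fun q => by
    simp only [Pi.lift_π, assoc]
    exact congrArg (pr B q.1) (assoc θ η q.2)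

/-- the extra codegeneracy -/
noncomputable def s (n : ℕ) : (W B).obj ⦋n + 1⦌ ⟶ (W B).obj ⦋n⦌ :=
  Pi.lift fun q : Q ⦋n⦌ => Pi.π (fun q : Q ⦋n + 1⦌ => B q.1) ⟨q.1, consHom q.2⟩

lemma δ_zero_s (n : ℕ) : (W B).map (SimplexCategory.δ (0 : Fin (n + 2))) ≫ s B n = 𝟙 _ := by
  refine Pi.hom_ext _ _ fun q => ?_
  simp only [W, s, assoc, Pi.lift_π, id_comp]
  obtain ⟨m, g⟩ := q
  rw [δ_zero_consHom]

lemma δ_succ_s (n : ℕ) (i : Fin (n + 2)) :
    (W B).map (SimplexCategory.δ i.succ) ≫ s B (n + 1) =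
      s B n ≫ (W B).map (SimplexCategory.δ i) := by
  refine Pi.hom_ext _ _ fun q => ?_
  simp only [W, s, assoc, Pi.lift_π]
  obtain ⟨m, g⟩ := q
  rw [δ_succ_consHom]

/-- the differential of the cofree object -/
noncomputable def dW (n : ℕ) : (W B).obj ⦋n⦌ ⟶ (W B).obj ⦋n + 1⦌ :=
  ∑ i : Fin (n + 2), (-1 : ℤ) ^ (i : ℕ) • (W B).map (SimplexCategory.δ i)

lemma homotopy_eq (n : ℕ) : dW B (n + 1) ≫ s B (n + 1) + s B n ≫ dW B n = 𝟙 _ := by
  rw [dW, dW, Preadditive.sum_comp, Fin.sum_univ_succ, Preadditive.comp_sum, add_assoc,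
    ← Finset.sum_add_distrib]
  simp only [Preadditive.zsmul_comp, Preadditive.comp_zsmul, δ_zero_s, δ_succ_s]
  rw [Fin.val_zero, pow_zero, one_zsmul]
  refine add_eq_left.2 (Finset.sum_eq_zero fun i _ => ?_)
  rw [Fin.val_succ, pow_succ, mul_neg, mul_one, neg_smul, neg_add_cancel]

/-- the map to the cofree object -/
noncomputable def toW (F : SimplexCategory ⥤ A) : F ⟶ W F.obj where
  app x := Pi.lift fun q : Q x => F.map q.2
  naturality x y θ := Pi.hom_ext _ _ fun q => by
    simp only [W, assoc, Pi.lift_π, ← F.map_comp]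

instance mono_toW (F : SimplexCategory ⥤ A) : Mono (toW F) := by
  haveI : ∀ x, Mono ((toW F).app x) := fun x => by
    have e : (toW F).app x ≫ Pi.π (fun q : Q x => F.obj q.1) ⟨x, 𝟙 x⟩ = 𝟙 _ :=
      (Pi.lift_π _ _).trans (F.map_id x)
    haveI : IsSplitMono ((toW F).app x) := IsSplitMono.mk' ⟨_, e⟩
    infer_instance
  exact NatTrans.mono_of_mono_app _

theorem isZero_homology_succ (F : SimplexCategory ⥤ A) [Injective F] (n : ℕ) :
    IsZero ((cx.obj F).homology (n + 1)) := by
  let r : W F.obj ⟶ F := Injective.factorThru (𝟙 F) (toW F)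
  have hr : toW F ≫ r = 𝟙 F := Injective.comp_factorThru _ _
  rw [← HomologicalComplex.exactAt_iff_isZero_homology,
    HomologicalComplex.exactAt_iff' _ n (n + 1) (n + 1 + 1) (by simp) (by simp),
    ShortComplex.exact_iff_exact_up_to_refinements]
  intro T x hx
  let j := cx.map (toW F)
  let p := cx.map r
  have hy : x ≫ j.f (n + 1) ≫ (cx.obj (W F.obj)).d (n + 1) (n + 1 + 1) = 0 := by
    rw [j.comm, ← assoc]
    exact (congrArg (· ≫ j.f (n + 1 + 1)) hx).trans zero_comp
  have hp : j.f (n + 1) ≫ p.f (n + 1) = 𝟙 _ := by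
    rw [cx_map_f, cx_map_f, ← NatTrans.comp_app, hr]
    rfl
  refine ⟨T, 𝟙 T, inferInstance, x ≫ j.f (n + 1) ≫ s F.obj n ≫ p.f n, ?_⟩
  change 𝟙 T ≫ x = (x ≫ j.f (n + 1) ≫ s F.obj n ≫ p.f n) ≫ (cx.obj F).d n (n + 1)
  have hd : ∀ k, (cx.obj (W F.obj)).d k (k + 1) = dW F.obj k := fun k => cx_d _ k
  have key : x ≫ j.f (n + 1) ≫ s F.obj n ≫ (cx.obj (W F.obj)).d n (n + 1) = x ≫ j.f (n + 1) := by
    have h := congrArg (fun z => (x ≫ j.f (n + 1)) ≫ z) (homotopy_eq F.obj n)
    rw [hd] at hy ⊢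
    have h0 : (x ≫ j.f (n + 1)) ≫ dW F.obj (n + 1) ≫ s F.obj (n + 1) = 0 := by
      rw [← assoc]
      refine (congrArg (· ≫ s F.obj (n + 1)) ?_).trans zero_comp
      rw [assoc]
      exact hy
    erw [Preadditive.comp_add, h0, zero_add, comp_id] at h
    rw [assoc] at h
    exact h
  refine (id_comp x).trans ?_
  simp only [assoc]
  rw [p.comm]
  refine Eq.trans ?_ ((reassoc_of% key) (p.f (n + 1))).symm
  exact ((congrArg (x ≫ ·) hp).trans (comp_id x)).symm

end Vanish

/-- the derived limit is the cohomology of the coface map complex -/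
theorem nonempty_rightDerived_lim_iso [HasLimitsOfShape SimplexCategory A] [HasProducts.{0} A]
    [EnoughInjectives (SimplexCategory ⥤ A)]
    [(lim : (SimplexCategory ⥤ A) ⥤ A).Additive] (F : SimplexCategory ⥤ A) (n : ℕ) :
    Nonempty (((lim : (SimplexCategory ⥤ A) ⥤ A).rightDerived n).obj F ≅ (cx.obj F).homology n) :=
  GrothSS.nonempty_rightDerived_iso_homology cx lim limIso cx_shortExact
    (fun I hI p => haveI := hI; isZero_homology_succ I p) n F

end Groth.Agent.W7CosimpLim
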